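import Groth.Agent.QCoh.Ab.Cech
import Mathlib.Data.Finsupp.SMul
import Mathlib.LinearAlgebra.Finsupp.LinearCombination
import Mathlib.LinearAlgebra.Finsupp.Supported
import Mathlib.Data.Fintype.Order
import Mathlib.Data.Finset.Max
import Mathlib.SetTheory.Cardinal.Finite

/-! Chains on all tuples: the projection to increasing tuples is homotopic to the identity. -/

noncomputable section

namespace Groth.Agent.CechCard98

open Groth.Agent.QCoh.Ab (delta delta_cons delta_delta)

variable {ι : Type*}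

/-- Formal combinations of tuples. -/
abbrev Ch (ι : Type*) (q : ℕ) : Type _ := (Fin q → ι) →₀ ℤ

/-- The boundary of a tuple. -/
def bd₀ {q : ℕ} (σ : Fin (q + 1) → ι) : Ch ι q := delta (fun τ => Finsupp.single τ (1 : ℤ)) σ

/-- The boundary. -/
def bd (ι : Type*) (q : ℕ) : Ch ι (q + 1) →ₗ[ℤ] Ch ι q := Finsupp.linearCombination ℤ bd₀

theorem bd_single {q : ℕ} (σ : Fin (q + 1) → ι) : bd ι q (Finsupp.single σ 1) = bd₀ σ := by
  simp [bd]

theorem map_delta {A B : Type*} [AddCommGroup A] [AddCommGroup B] (f : A →ₗ[ℤ] B) {n : ℕ}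
    (g : (Fin n → ι) → A) (σ : Fin (n + 1) → ι) : f (delta g σ) = delta (fun τ => f (g τ)) σ := by
  simp [delta, map_sum]

theorem bd_bd₀ {q : ℕ} (σ : Fin (q + 2) → ι) : bd ι q (bd₀ σ) = 0 := by
  rw [bd₀, map_delta, show (fun τ => bd ι q (Finsupp.single τ (1 : ℤ))) =
    delta (fun τ => Finsupp.single τ (1 : ℤ)) from funext fun τ => bd_single τ]
  exact delta_delta _ σ

/-- The cone on a vertex. -/
def cone (v : ι) (q : ℕ) : Ch ι q →ₗ[ℤ] Ch ι (q + 1) :=
  Finsupp.linearCombination ℤ fun τ => Finsupp.single (Fin.cons v τ) 1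

theorem cone_single (v : ι) {q : ℕ} (τ : Fin q → ι) :
    cone v q (Finsupp.single τ 1) = Finsupp.single (Fin.cons v τ) 1 := by simp [cone]

theorem bd₀_cons (v : ι) {q : ℕ} (τ : Fin (q + 1) → ι) :
    bd₀ (Fin.cons v τ) = Finsupp.single τ 1 - cone v q (bd₀ τ) := by
  rw [bd₀, delta_cons, bd₀, map_delta]
  simp only [cone_single]

theorem bd_cone (v : ι) {q : ℕ} (z : Ch ι (q + 1)) :
    bd ι (q + 1) (cone v (q + 1) z) = z - cone v q (bd ι q z) := by
  induction z using Finsupp.induction_linear with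
  | zero => simp
  | add a b ha hb => rw [map_add, map_add, ha, hb, map_add, map_add]; abel
  | single τ m =>
    rw [show Finsupp.single τ m = m • Finsupp.single τ (1 : ℤ) by simp]
    rw [map_smul, map_smul, map_smul, map_smul, cone_single, bd_single, bd_single, bd₀_cons,
      smul_sub]

theorem bd₀_zero (σ : Fin 1 → ι) : bd₀ σ = Finsupp.single Fin.elim0 1 := by
  simp [bd₀, delta, Subsingleton.elim (α := Fin 0 → ι) _ Fin.elim0]

variable [LinearOrder ι]

/-- The cone on a smallest vertex, in the ordered complex. -/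
def cone' (v : ι) (q : ℕ) : Ch ι q →ₗ[ℤ] Ch ι (q + 1) :=
  open Classical in Finsupp.linearCombination ℤ fun τ =>
    if v ∈ Set.range τ then 0 else Finsupp.single (Fin.cons v τ) 1

/-- The smallest vertex of a tuple. -/
def mn {q : ℕ} (σ : Fin (q + 1) → ι) : ι := Finset.univ.inf' ⟨0, Finset.mem_univ _⟩ σ

theorem mn_le {q : ℕ} (σ : Fin (q + 1) → ι) {x : ι} (hx : x ∈ Set.range σ) : mn σ ≤ x := by
  obtain ⟨i, rfl⟩ := hx
  exact Finset.inf'_le _ (Finset.mem_univ i)

theorem mn_mem {q : ℕ} (σ : Fin (q + 1) → ι) : mn σ ∈ Set.range σ := by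
  obtain ⟨i, -, hi⟩ := Finset.exists_mem_eq_inf' (⟨0, Finset.mem_univ _⟩ : Finset.univ.Nonempty) σ
  exact ⟨i, hi.symm⟩

/-- The projection onto increasing tuples. -/
def proj : ∀ q : ℕ, (Fin q → ι) → Ch ι q
  | 0, σ => Finsupp.single σ 1
  | q + 1, σ => cone' (mn σ) q (Finsupp.linearCombination ℤ (proj q) (bd₀ σ))

/-- The homotopy between the identity and the projection. -/
def htpy : ∀ q : ℕ, (Fin q → ι) → Ch ι (q + 1)
  | 0, _ => 0
  | q + 1, σ => cone (σ 0) (q + 1)
      (Finsupp.single σ 1 - proj (q + 1) σ - Finsupp.linearCombination ℤ (htpy q) (bd₀ σ))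

/-- Increasing tuples in the vertices of `σ`. -/
def inc {p : ℕ} (σ : Fin p → ι) (q : ℕ) : Submodule ℤ (Ch ι q) :=
  Finsupp.supported ℤ ℤ {τ | StrictMono τ ∧ Set.range τ ⊆ Set.range σ}

/-- Tuples in the vertices of `σ`. -/
def sub {p : ℕ} (σ : Fin p → ι) (q : ℕ) : Submodule ℤ (Ch ι q) :=
  Finsupp.supported ℤ ℤ {τ | Set.range τ ⊆ Set.range σ}

theorem linearCombination_mem {α M : Type*} [AddCommGroup M] {N : Submodule ℤ M} {f : α → M}
    {s : Set α} (hf : ∀ a ∈ s, f a ∈ N) {z : α →₀ ℤ} (hz : z ∈ Finsupp.supported ℤ ℤ s) :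
    Finsupp.linearCombination ℤ f z ∈ N := by
  rw [Finsupp.linearCombination_apply]
  exact N.sum_mem fun a ha => N.smul_mem _ (hf a ((Finsupp.mem_supported ℤ z).1 hz ha))

theorem range_face {p q : ℕ} {σ : Fin p → ι} {τ : Fin (q + 1) → ι} (a : Fin (q + 1))
    (h : Set.range τ ⊆ Set.range σ) : Set.range (fun b => τ (a.succAbove b)) ⊆ Set.range σ := by
  rintro _ ⟨b, rfl⟩
  exact h ⟨_, rfl⟩

theorem bd₀_mem {q : ℕ} (σ : Fin (q + 1) → ι) : bd₀ σ ∈ sub σ q :=
  Submodule.sum_mem _ fun a _ => Submodule.smul_mem _ _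
    (Finsupp.single_mem_supported ℤ 1 (range_face a Set.Subset.rfl))

theorem proj_mem : ∀ (q : ℕ) (σ : Fin q → ι), proj q σ ∈ inc σ q
  | 0, σ => Finsupp.single_mem_supported ℤ 1 ⟨fun a => a.elim0, Set.Subset.rfl⟩
  | q + 1, σ => by
    classical
    have h : Finsupp.linearCombination ℤ (proj q) (bd₀ σ) ∈ inc σ q :=
      linearCombination_mem (fun τ hτ => (Finsupp.supported_mono
        (s := {ρ | StrictMono ρ ∧ Set.range ρ ⊆ Set.range τ})
        (t := {ρ | StrictMono ρ ∧ Set.range ρ ⊆ Set.range σ}) fun ρ hρ =>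
        ⟨hρ.1, hρ.2.trans hτ⟩) (proj_mem q τ)) (bd₀_mem σ)
    rw [proj, cone']
    refine linearCombination_mem (s := {τ | StrictMono τ ∧ Set.range τ ⊆ Set.range σ})
      (fun τ hτ => ?_) h
    split
    · exact Submodule.zero_mem _
    · next hv =>
      refine Finsupp.single_mem_supported ℤ 1 ⟨?_, ?_⟩
      · intro i j hij
        refine Fin.cases ?_ (fun i' => ?_) i j hij
        · intro j hj
          obtain ⟨j', rfl⟩ := Fin.exists_succ_eq.2 (Fin.pos_iff_ne_zero.1 hj)
          rw [Fin.cons_zero, Fin.cons_succ]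
          exact lt_of_le_of_ne (mn_le σ (hτ.2 ⟨j', rfl⟩)) fun e => hv ⟨j', e.symm⟩
        · intro j hj
          obtain ⟨j', rfl⟩ := Fin.exists_succ_eq.2 (Fin.pos_iff_ne_zero.1 ((Fin.zero_le _).trans_lt hj))
          rw [Fin.cons_succ, Fin.cons_succ]
          exact hτ.1 (Fin.succ_lt_succ_iff.1 hj)
      · rintro _ ⟨j, rfl⟩
        refine Fin.cases ?_ (fun j' => ?_) j
        · rw [Fin.cons_zero]; exact mn_mem σ
        · rw [Fin.cons_succ]; exact hτ.2 ⟨j', rfl⟩

theorem htpy_mem : ∀ (q : ℕ) (σ : Fin q → ι), htpy q σ ∈ sub σ (q + 1)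
  | 0, σ => Submodule.zero_mem _
  | q + 1, σ => by
    rw [htpy, cone]
    refine linearCombination_mem (s := {τ | Set.range τ ⊆ Set.range σ}) (fun τ hτ => ?_) ?_
    · refine Finsupp.single_mem_supported ℤ 1 ?_
      rintro _ ⟨j, rfl⟩
      refine Fin.cases ?_ (fun j' => ?_) j
      · rw [Fin.cons_zero]; exact ⟨0, rfl⟩
      · rw [Fin.cons_succ]; exact hτ ⟨j', rfl⟩
    · refine Submodule.sub_mem _ (Submodule.sub_mem _ ?_ ?_) ?_
      · exact Finsupp.single_mem_supported ℤ 1 (show Set.range σ ⊆ Set.range σ from Set.Subset.rfl)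
      · exact (Finsupp.supported_mono fun τ hτ => hτ.2) (proj_mem (q + 1) σ)
      · refine linearCombination_mem (N := sub σ (q + 1)) (s := {τ | Set.range τ ⊆ Set.range σ})
          (fun τ hτ => ?_) (bd₀_mem σ)
        exact Finsupp.supported_mono (s := {ρ | Set.range ρ ⊆ Set.range τ})
          (fun ρ hρ => Set.Subset.trans hρ hτ) (htpy_mem q τ)

theorem bd_cone'_add {p q : ℕ} (σ : Fin (p + 1) → ι) {z : Ch ι (q + 1)} (hz : z ∈ inc σ (q + 1)) :
    bd ι (q + 1) (cone' (mn σ) (q + 1) z) + cone' (mn σ) q (bd ι q z) = z := by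
  classical
  have key : ∀ τ : Fin (q + 1) → ι, StrictMono τ → Set.range τ ⊆ Set.range σ →
      bd ι (q + 1) (cone' (mn σ) (q + 1) (Finsupp.single τ 1)) +
        cone' (mn σ) q (bd ι q (Finsupp.single τ 1)) = Finsupp.single τ 1 := by
    intro τ hm hr
    rw [bd_single]
    by_cases hv : mn σ ∈ Set.range τ
    · have h0 : τ 0 = mn σ := by
        obtain ⟨j, hj⟩ := hv
        exact le_antisymm (hj ▸ hm.monotone (Fin.zero_le j)) (mn_le σ (hr ⟨0, rfl⟩))
      rw [show cone' (mn σ) (q + 1) (Finsupp.single τ 1) = 0 by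
        simp only [cone', Finsupp.linearCombination_single, if_pos hv, smul_zero], map_zero, zero_add]
      have hnot : mn σ ∉ Set.range (Fin.tail τ) := by
        rintro ⟨j, hj⟩
        exact Fin.succ_ne_zero j (hm.injective (hj.trans h0.symm))
      cases q with
      | zero =>
        rw [bd₀_zero]
        have e : (Fin.cons (mn σ) Fin.elim0 : Fin 1 → ι) = τ := funext fun i => by
          rw [Fin.eq_zero i, Fin.cons_zero, h0]
        simp [cone', e]
      | succ q =>
        conv_lhs => rw [← Fin.cons_self_tail τ, h0, bd₀_cons, map_sub]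
        have e1 : cone' (mn σ) (q + 1) (Finsupp.single (Fin.tail τ) 1) = Finsupp.single τ 1 := by
          rw [show cone' (mn σ) (q + 1) (Finsupp.single (Fin.tail τ) 1) =
            Finsupp.single (Fin.cons (mn σ) (Fin.tail τ)) 1 by
              simp only [cone', Finsupp.linearCombination_single, if_neg hnot, one_smul], ← h0,
            Fin.cons_self_tail]
        have e2 : ∀ y, cone' (mn σ) (q + 1) (cone (mn σ) q y) = 0 := fun y => by
          induction y using Finsupp.induction_linear with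
          | zero => simp
          | add a b ha hb => rw [map_add, map_add, ha, hb, add_zero]
          | single ρ m =>
            have hin : mn σ ∈ Set.range (Fin.cons (mn σ) ρ : Fin (q + 1) → ι) := ⟨0, Fin.cons_zero _ _⟩
            simp only [cone, cone', Finsupp.linearCombination_single, map_smul, if_pos hin, smul_zero]
        rw [e1, e2, sub_zero]
    · rw [show cone' (mn σ) (q + 1) (Finsupp.single τ 1) = Finsupp.single (Fin.cons (mn σ) τ) 1 by
        simp only [cone', Finsupp.linearCombination_single, if_neg hv, one_smul], bd_single, bd₀_cons]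
      have e : cone' (mn σ) q (bd₀ τ) = cone (mn σ) q (bd₀ τ) := by
        rw [bd₀, map_delta, map_delta]
        refine Finset.sum_congr rfl fun a _ => ?_
        congr 1
        have : mn σ ∉ Set.range (fun b => τ (a.succAbove b)) := fun ⟨b, hb⟩ => hv ⟨_, hb⟩
        simp only [cone', cone, Finsupp.linearCombination_single, if_neg this]
      rw [e, sub_add_cancel]
  let L : Ch ι (q + 1) →ₗ[ℤ] Ch ι (q + 1) :=
    (bd ι (q + 1)).comp (cone' (mn σ) (q + 1)) + (cone' (mn σ) q).comp (bd ι q)
  show L z = z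
  conv_lhs => rw [← Finsupp.sum_single z]
  rw [map_finsuppSum]
  conv_rhs => rw [← Finsupp.sum_single z]
  refine Finsupp.sum_congr fun τ hτ => ?_
  have hm := (Finsupp.mem_supported ℤ z).1 hz hτ
  rw [← Finsupp.smul_single_one, map_smul]
  exact congrArg _ (key τ hm.1 hm.2)

theorem bd_linearCombination {α : Type*} {q : ℕ} (f : α → Ch ι (q + 1)) (z : α →₀ ℤ) :
    bd ι q (Finsupp.linearCombination ℤ f z) = Finsupp.linearCombination ℤ (fun a => bd ι q (f a)) z := by
  simp [Finsupp.linearCombination_apply, map_finsuppSum]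

theorem lc_lc {α β M : Type*} [AddCommGroup M] (g : β → M) (f : α → β →₀ ℤ) (z : α →₀ ℤ) :
    Finsupp.linearCombination ℤ (fun a => Finsupp.linearCombination ℤ g (f a)) z =
      Finsupp.linearCombination ℤ g (Finsupp.linearCombination ℤ f z) := by
  induction z using Finsupp.induction_linear with
  | zero => simp
  | add a b ha hb => simp only [map_add, ha, hb]
  | single a m => simp only [Finsupp.linearCombination_single, map_smul]

theorem bd_proj : ∀ (q : ℕ) (σ : Fin (q + 1) → ι),
    bd ι q (proj (q + 1) σ) = Finsupp.linearCombination ℤ (proj q) (bd₀ σ) := by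
  intro q
  induction q with
  | zero =>
    intro σ
    classical
    have hz : Finsupp.linearCombination ℤ (proj 0) (bd₀ σ) = Finsupp.single Fin.elim0 1 := by
      simp [bd₀_zero, proj]
    rw [proj, hz]
    simp [cone', bd_single, bd₀_zero]
  | succ q ih =>
    intro σ
    set z := Finsupp.linearCombination ℤ (proj (q + 1)) (bd₀ σ) with hz
    have hmem : z ∈ inc σ (q + 1) :=
      linearCombination_mem (fun τ hτ => (Finsupp.supported_mono
        (s := {ρ | StrictMono ρ ∧ Set.range ρ ⊆ Set.range τ})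
        (t := {ρ | StrictMono ρ ∧ Set.range ρ ⊆ Set.range σ}) fun ρ hρ =>
        ⟨hρ.1, hρ.2.trans hτ⟩) (proj_mem (q + 1) τ)) (bd₀_mem σ)
    have hb : bd ι q z = 0 := by
      rw [hz, bd_linearCombination, show (fun τ => bd ι q (proj (q + 1) τ)) =
        fun τ => Finsupp.linearCombination ℤ (proj q) (bd₀ τ) from funext ih, lc_lc,
        show Finsupp.linearCombination ℤ bd₀ (bd₀ σ) = 0 from bd_bd₀ σ, map_zero]
    have := bd_cone'_add σ hmem
    rw [hb, map_zero, add_zero] at this
    rw [proj]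
    exact this

theorem bd_htpy : ∀ (q : ℕ) (σ : Fin (q + 1) → ι),
    bd ι (q + 1) (htpy (q + 1) σ) + Finsupp.linearCombination ℤ (htpy q) (bd₀ σ) =
      Finsupp.single σ 1 - proj (q + 1) σ := by
  intro q
  induction q with
  | zero =>
    intro σ
    have h0 : Finsupp.linearCombination ℤ (htpy (ι := ι) 0) (bd₀ σ) = 0 := by
      simp [bd₀_zero, htpy]
    rw [htpy, bd_cone, h0, sub_zero, add_zero, sub_eq_self]
    have hp : Finsupp.linearCombination ℤ (proj (ι := ι) 0) (bd₀ σ) = bd₀ σ := by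
      simp [bd₀_zero, proj]
    rw [map_sub, bd_single, bd_proj, hp, sub_self, map_zero]
  | succ q ih =>
    intro σ
    rw [htpy, bd_cone]
    set w := Finsupp.single σ 1 - proj (q + 1 + 1) σ -
      Finsupp.linearCombination ℤ (htpy (q + 1)) (bd₀ σ) with hw
    have hb : bd ι (q + 1) w = 0 := by
      rw [hw, map_sub, map_sub, bd_single, bd_proj, bd_linearCombination]
      have e : (fun τ => bd ι (q + 1) (htpy (q + 1) τ)) =
          fun τ => Finsupp.single τ (1 : ℤ) - proj (q + 1) τ -
            Finsupp.linearCombination ℤ (htpy q) (bd₀ τ) := funext fun τ => eq_sub_of_add_eq (ih τ)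
      have hsub : ∀ (f g : (Fin (q + 1) → ι) → Ch ι (q + 1)) (y : Ch ι (q + 1)),
          Finsupp.linearCombination ℤ (fun τ => f τ - g τ) y =
            Finsupp.linearCombination ℤ f y - Finsupp.linearCombination ℤ g y := fun f g y => by
        simp [Finsupp.linearCombination_apply, smul_sub, Finsupp.sum_sub]
      rw [e, hsub, hsub, lc_lc, show Finsupp.linearCombination ℤ bd₀ (bd₀ σ) = 0 from bd_bd₀ σ,
        map_zero, sub_zero]
      have hid : Finsupp.linearCombination ℤ (fun τ => Finsupp.single τ (1 : ℤ)) (bd₀ σ) = bd₀ σ := by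
        simp [Finsupp.linearCombination_apply]
      rw [hid, sub_self]
    rw [hb, map_zero, sub_zero, hw, sub_add_cancel]

theorem proj_eq_zero [Finite ι] {q : ℕ} (hq : Nat.card ι < q) (σ : Fin q → ι) : proj q σ = 0 := by
  have h := (Finsupp.mem_supported ℤ _).1 (proj_mem q σ)
  rw [← Finsupp.support_eq_empty]
  refine Finset.eq_empty_of_forall_notMem fun τ hτ => ?_
  have := Nat.card_le_card_of_injective τ (h hτ).1.injective
  rw [Nat.card_fin] at this
  omega

end Groth.Agent.CechCard98
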