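import Groth.Agent.CechCard98.Chains
import Groth.Agent.QCoh.Ab.CechBridge
import Mathlib.Algebra.Category.Grp.Zero
import Mathlib.SetTheory.Cardinal.Order

/-! Čech cohomology vanishes from the number of opens on. -/

noncomputable section

universe u

open CategoryTheory CategoryTheory.Limits TopologicalSpace Opposite

namespace Groth.Agent.CechCard98

open Groth.Agent.QCoh.Ab

variable {X : TopCat.{u}} {ι : Type u} {P : TopCat.Presheaf AddCommGrpCat.{u} X} {U : ι → Opens X}

theorem le_of_range {p q : ℕ} {σ : Fin p → ι} {τ : Fin q → ι} {W : Opens X} (h : Le U σ W)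
    (hr : Set.range τ ⊆ Set.range σ) : Le U τ W := fun a => by
  obtain ⟨b, hb⟩ := hr ⟨a, rfl⟩
  exact hb ▸ h b

/-- Evaluation of a cochain on chains. -/
def ev {q : ℕ} (c : Cochain P U q) (W : Opens X) : Ch ι q →ₗ[ℤ] P.obj (op W) :=
  Finsupp.linearCombination ℤ (extend c W)

theorem ev_delta {q : ℕ} (c : Cochain P U q) (W : Opens X) (σ : Fin (q + 1) → ι) :
    ev c W (bd₀ σ) = delta (extend c W) σ := by
  rw [bd₀, map_delta]
  simp [ev]

theorem exists_d_eq [Finite ι] {q : ℕ} (hq : Nat.card ι < q + 1) (c : Cochain P U (q + 1))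
    (hc : IsNatural c) (hd : d c = 0) :
    ∃ b : Cochain P U q, IsNatural b ∧ d b = c := by
  classical
  letI : LinearOrder ι := IsWellOrder.linearOrder WellOrderingRel
  let b : Cochain P U q := fun τ W => ev c W.1 (htpy q τ)
  refine ⟨b, ?_, ?_⟩
  · intro τ W W' h h' i
    simp only [b, ev, Finsupp.linearCombination_apply, map_finsuppSum, map_zsmul]
    refine Finsupp.sum_congr fun ρ hρ => ?_
    have hr := (Finsupp.mem_supported ℤ _).1 (htpy_mem q τ) hρ
    rw [QCoh.Ab.extend, QCoh.Ab.extend, dif_pos (le_of_range h hr), dif_pos (le_of_range h' hr)]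
    rw [hc ρ W W' _ _ i]
  · funext σ W
    obtain ⟨W, h⟩ := W
    rw [d_eq_delta]
    have e1 : delta (extend b W) σ =
        ev c W (Finsupp.linearCombination ℤ (htpy q) (bd₀ σ)) := by
      rw [← ev_delta b W σ]
      simp only [ev, Finsupp.linearCombination_apply, map_finsuppSum, map_smul]
      refine Finsupp.sum_congr fun τ hτ => ?_
      have hr := (Finsupp.mem_supported ℤ _).1 (bd₀_mem σ) hτ
      rw [QCoh.Ab.extend, dif_pos (le_of_range h hr)]
      simp only [b, ev, Finsupp.linearCombination_apply]
    have e2 : ev c W (bd ι (q + 1) (htpy (q + 1) σ)) = 0 := by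
      rw [bd, ev, ← lc_lc, Finsupp.linearCombination_apply]
      refine Finset.sum_eq_zero fun τ hτ => ?_
      dsimp only
      rw [show Finsupp.linearCombination ℤ (extend c W) (bd₀ τ) = 0 from ?_, smul_zero]
      have hr := (Finsupp.mem_supported ℤ _).1 (htpy_mem (q + 1) σ) hτ
      refine (ev_delta c W τ).trans ?_
      rw [← extend_d c W (le_of_range h hr), hd, QCoh.Ab.extend, dif_pos (le_of_range h hr)]
      rfl
    rw [e1, eq_sub_of_add_eq' (bd_htpy q σ), proj_eq_zero hq σ, sub_zero, map_sub, e2, sub_zero]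
    simp [ev, QCoh.Ab.extend, dif_pos h]

theorem isZero_homology [Finite ι] (q : ℕ) (hq : Nat.card ι ≤ q) :
    IsZero (((cechComplexFunctor (A := AddCommGrpCat.{u}) U).obj P).homology q) := by
  refine IsZero.of_iso ?_ ((HomologicalComplex.homologyMapIso (QCoh.Ab.cechIso P U) q).symm)
  cases q with
  | zero =>
    have : IsEmpty ι := by
      rcases isEmpty_or_nonempty ι with h | h
      · exact h
      · have := Nat.card_pos (α := ι); omega
    rw [← HomologicalComplex.exactAt_iff_isZero_homology]
    haveI : Subsingleton (AddCommGrpCat.of (natCochains P U (0 + 1))) :=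
      ⟨fun a b => Subtype.ext (funext fun σ => isEmptyElim (σ 0))⟩
    exact ShortComplex.exact_of_isZero_X₂ _
      (AddCommGrpCat.isZero_iff_subsingleton.2 (inferInstance :
        Subsingleton (AddCommGrpCat.of (natCochains P U (0 + 1)))))
  | succ p =>
    rw [← HomologicalComplex.exactAt_iff_isZero_homology,
      HomologicalComplex.exactAt_iff' _ p (p + 1) (p + 2) (by simp) (by simp),
      ShortComplex.ab_exact_iff]
    simp only [HomologicalComplex.sc', HomologicalComplex.shortComplexFunctor'_obj_f,
      HomologicalComplex.shortComplexFunctor'_obj_g, natCx_d]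
    intro c hd
    obtain ⟨b, hbn, hb⟩ := exists_d_eq (by omega) c.1 c.2 (congrArg Subtype.val hd)
    exact ⟨⟨b, hbn⟩, Subtype.ext hb⟩

end Groth.Agent.CechCard98
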